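import Groth.Agent.GrModX.QCohTilde
import Groth.Agent.QCoh.Stalk
import Groth.Agent.QCoh.Support

/-!
# Coordinates `a / f_i ^ d` in the stalks of `Proj`
-/

noncomputable section

universe u

set_option backward.isDefEq.respectTransparency false
set_option backward.isDefEq.respectTransparency.types false

open CategoryTheory AlgebraicGeometry TopologicalSpace DirectSum Opposite HomogeneousLocalization
open Groth.Agent.GrModX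

namespace Groth.Agent.GrGamma

variable {A σ : Type u} [CommRing A] [SetLike σ A] [AddSubgroupClass σ A] (𝒜 : ℕ → σ) [GradedRing 𝒜]
variable {ι : Type u} (f : ι → A) (hf : ∀ i, f i ∈ 𝒜 1)

/-- A standard chart. -/
abbrev D (i : ι) : (Proj 𝒜).Opens := Proj.basicOpen 𝒜 (f i)

/-- The section `a / f_i ^ d` on a chart. -/
def rd (i : ι) (d : ℕ) (a : A) (ha : a ∈ 𝒜 d) : Γ(Proj 𝒜, D 𝒜 f i) :=
  Proj.awayToSection 𝒜 (f i) (Away.mk 𝒜 (hf i) d a (by simpa using ha))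

/-- The value of a germ in the localization at the point. -/
def V (x : Proj 𝒜) : (Proj 𝒜).presheaf.stalk x →+* GrTwist.Loc 𝒜 x :=
  (algebraMap (GrTwist.A0 𝒜 x) (GrTwist.Loc 𝒜 x)).comp (Proj.stalkIso' 𝒜 x).toRingHom

lemma V_injective (x : Proj 𝒜) : Function.Injective (V 𝒜 x) := fun a b h =>
  (Proj.stalkIso' 𝒜 x).injective (HomogeneousLocalization.val_injective _ h)

lemma V_germ {U : (Proj 𝒜).Opens} (c : Γ(Proj 𝒜, U)) (x : Proj 𝒜) (hx : x ∈ U) :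
    V 𝒜 x ((Proj 𝒜).presheaf.germ U x hx c) = (oval 𝒜 c ⟨x, hx⟩).val := by
  show (Proj.stalkIso' 𝒜 x ((Proj 𝒜).presheaf.germ U x hx c)).val = _
  erw [Proj.stalkIso'_germ]

/-- The germ of a degree zero fraction. -/
def φ0 (x : Proj 𝒜) (c : GrTwist.A0 𝒜 x) : (Proj 𝒜).presheaf.stalk x := (Proj.stalkIso' 𝒜 x).symm c

lemma V_φ0 (x : Proj 𝒜) (c : GrTwist.A0 𝒜 x) : V 𝒜 x (φ0 𝒜 x c) = c.val :=
  congrArg HomogeneousLocalization.val ((Proj.stalkIso' 𝒜 x).apply_symm_apply c)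

lemma germ_eq_φ0 {U : (Proj 𝒜).Opens} (c : Γ(Proj 𝒜, U)) (x : Proj 𝒜) (hx : x ∈ U) :
    (Proj 𝒜).presheaf.germ U x hx c = φ0 𝒜 x (oval 𝒜 c ⟨x, hx⟩) :=
  V_injective 𝒜 x (by rw [V_germ, V_φ0])

/-- The germ of `a / f_i ^ d`. -/
def ρ (i : ι) (x : Proj 𝒜) (hx : x ∈ D 𝒜 f i) (d : ℕ) (a : A) (ha : a ∈ 𝒜 d) : (Proj 𝒜).presheaf.stalk x :=
  (Proj 𝒜).presheaf.germ (D 𝒜 f i) x hx (rd 𝒜 f hf i d a ha)

lemma V_ρ (i : ι) (x : Proj 𝒜) (hx : x ∈ D 𝒜 f i) (d : ℕ) (a : A) (ha : a ∈ 𝒜 d) :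
    V 𝒜 x (ρ 𝒜 f hf i x hx d a ha) = Localization.mk a ⟨f i ^ d, pow_notMem x.isPrime hx d⟩ := by
  rw [ρ, V_germ, rd, oval_awayToSection]

lemma ρ_mul (i : ι) (x : Proj 𝒜) (hx : x ∈ D 𝒜 f i) {d e : ℕ} {a b : A} (ha : a ∈ 𝒜 d) (hb : b ∈ 𝒜 e) :
    ρ 𝒜 f hf i x hx (d + e) (a * b) (SetLike.mul_mem_graded ha hb) =
      ρ 𝒜 f hf i x hx d a ha * ρ 𝒜 f hf i x hx e b hb := by
  refine V_injective 𝒜 x ?_
  rw [map_mul, V_ρ, V_ρ, V_ρ, Localization.mk_mul]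
  exact congrArg _ (Subtype.ext (pow_add _ _ _))

lemma ρ_congr (i : ι) (x : Proj 𝒜) (hx : x ∈ D 𝒜 f i) {d d' : ℕ} {a a' : A} (ha : a ∈ 𝒜 d) (ha' : a' ∈ 𝒜 d')
    (hd : d = d') (h : a = a') : ρ 𝒜 f hf i x hx d a ha = ρ 𝒜 f hf i x hx d' a' ha' := by
  subst hd h; rfl

lemma ρ_one (i : ι) (x : Proj 𝒜) (hx : x ∈ D 𝒜 f i) :
    ρ 𝒜 f hf i x hx 0 1 SetLike.GradedOne.one_mem = 1 := by
  refine V_injective 𝒜 x ?_
  rw [map_one, V_ρ, show (⟨f i ^ 0, _⟩ : x.asHomogeneousIdeal.toIdeal.primeCompl) = 1 from Subtype.ext (pow_zero _)]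
  exact Localization.mk_one

lemma ρ_self (i : ι) (x : Proj 𝒜) (hx : x ∈ D 𝒜 f i) : ρ 𝒜 f hf i x hx 1 (f i) (hf i) = 1 := by
  refine V_injective 𝒜 x ?_
  rw [map_one, V_ρ]
  exact (congrArg (Localization.mk (f i)) (Subtype.ext (pow_one _))).trans
    (Localization.mk_self (⟨f i, hx⟩ : x.asHomogeneousIdeal.toIdeal.primeCompl))

lemma ρ_zero (i : ι) (x : Proj 𝒜) (hx : x ∈ D 𝒜 f i) (d : ℕ) :
    ρ 𝒜 f hf i x hx d 0 (zero_mem _) = 0 :=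
  V_injective 𝒜 x (by rw [map_zero, V_ρ, Localization.mk_zero])

lemma isUnit_ρ (i : ι) (x : Proj 𝒜) (hx : x ∈ D 𝒜 f i) (d : ℕ) (a : A) (ha : a ∈ 𝒜 d)
    (hax : a ∉ x.asHomogeneousIdeal) : IsUnit (ρ 𝒜 f hf i x hx d a ha) := by
  refine isUnit_of_map_unit (Proj.stalkIso' 𝒜 x) _ ?_
  refine (HomogeneousLocalization.isUnit_iff_isUnit_val _ _ _).1 ?_
  show IsUnit (V 𝒜 x (ρ 𝒜 f hf i x hx d a ha))
  rw [V_ρ, Localization.mk_eq_mk', IsLocalization.AtPrime.isUnit_mk'_iff]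
  exact hax

lemma ρ_change (i j : ι) (x : Proj 𝒜) (hi : x ∈ D 𝒜 f i) (hj : x ∈ D 𝒜 f j) (d : ℕ) (a : A) (ha : a ∈ 𝒜 d) :
    ρ 𝒜 f hf j x hj d a ha = ρ 𝒜 f hf j x hj 1 (f i) (hf i) ^ d * ρ 𝒜 f hf i x hi d a ha := by
  refine V_injective 𝒜 x ?_
  rw [map_mul, map_pow, V_ρ, V_ρ, V_ρ, Localization.mk_pow, Localization.mk_mul, Localization.mk_eq_mk_iff,
    Localization.r_iff_exists]
  refine ⟨1, ?_⟩
  simp only [OneMemClass.coe_one, one_mul, Submonoid.coe_mul, SubmonoidClass.coe_pow, pow_one]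
  ring

/-- The coordinate `f_i / f_j` cuts out `D i ⊓ D j` in `D j`. -/
lemma basicOpen_rd (j : ι) (d : ℕ) (a : A) (ha : a ∈ 𝒜 d) :
    (Proj 𝒜).basicOpen (rd 𝒜 f hf j d a ha) = Proj.basicOpen 𝒜 (f j * a) :=
  basicOpen_awayToSection 𝒜 (hf j) d _

end Groth.Agent.GrGamma
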