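import Groth.Agent.GrGamma.GlueHom
import Mathlib.Algebra.Module.GradedModule

/-!
# The graded module of compatible chart sections
-/

noncomputable section

universe u

set_option backward.isDefEq.respectTransparency false
set_option backward.isDefEq.respectTransparency.types false
set_option synthInstance.maxHeartbeats 400000

open CategoryTheory AlgebraicGeometry TopologicalSpace DirectSum Opposite HomogeneousLocalization
open Groth.Agent.GrModX Groth.Agent.QCoh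

namespace Groth.Agent.GrGamma

variable {A σ : Type u} [CommRing A] [SetLike σ A] [AddSubgroupClass σ A] (𝒜 : ℕ → σ) [GradedRing 𝒜]
variable {ι : Type u} (f : ι → A) (hf : ∀ i, f i ∈ 𝒜 1) (F : (Proj 𝒜).Modules)

/-- Sections of degree `n`: chart sections differing by the powers of the coordinates. -/
def Gam (n : ℕ) : AddSubgroup (∀ i, Γ(F, D 𝒜 f i)) where
  carrier := {s | ∀ i j x (hi : x ∈ D 𝒜 f i) (hj : x ∈ D 𝒜 f j),
    g 𝒜 f F j x hj (s j) = ρ 𝒜 f hf j x hj 1 (f i) (hf i) ^ n • g 𝒜 f F i x hi (s i)}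
  zero_mem' i j x hi hj := by simp [g]
  add_mem' {a b} ha hb i j x hi hj := by
    simp only [Pi.add_apply, g, map_add, smul_add]
    exact congrArg₂ _ (ha i j x hi hj) (hb i j x hi hj)
  neg_mem' {a} ha i j x hi hj := by
    simp only [Pi.neg_apply, g, map_neg, smul_neg]
    exact congrArg _ (ha i j x hi hj)

variable {𝒜 f hf F}

/-- Multiplication by a homogeneous element. -/
def act {d : ℕ} {a : A} (ha : a ∈ 𝒜 d) {n : ℕ} (s : Gam 𝒜 f hf F n) : Gam 𝒜 f hf F (d + n) :=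
  ⟨fun i => rd 𝒜 f hf i d a ha • s.1 i, fun i j x hi hj => by
    simp only [g, germ_smul']
    show ρ 𝒜 f hf j x hj d a ha • _ = _ • ρ 𝒜 f hf i x hi d a ha • _
    have hs := s.2 i j x hi hj
    simp only [g] at hs
    rw [hs, smul_smul, smul_smul, ρ_change 𝒜 f hf i j x hi hj d a ha, pow_add]
    congr 1
    ring⟩

lemma g_act {d : ℕ} {a : A} (ha : a ∈ 𝒜 d) {n : ℕ} (s : Gam 𝒜 f hf F n) (i : ι) (x : Proj 𝒜) (hx : x ∈ D 𝒜 f i) :
    g 𝒜 f F i x hx ((act ha s).1 i) = ρ 𝒜 f hf i x hx d a ha • g 𝒜 f F i x hx (s.1 i) :=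
  germ_smul' F hx _ _

lemma ext_g {v w : ∀ i, Γ(F, D 𝒜 f i)}
    (h : ∀ i x (hx : x ∈ D 𝒜 f i), g 𝒜 f F i x hx (v i) = g 𝒜 f F i x hx (w i)) : v = w :=
  funext fun i => germ_ext F fun x hx => h i x hx

lemma gam_mk_eq {n n' : ℕ} (h : n = n') (s : Gam 𝒜 f hf F n) (t : Gam 𝒜 f hf F n') (hv : s.1 = t.1) :
    (GradedMonoid.mk n s : GradedMonoid fun n => Gam 𝒜 f hf F n) = GradedMonoid.mk n' t := by
  subst h; rw [Subtype.ext hv]

instance gmodule : DirectSum.Gmodule (fun d => 𝒜 d) (fun n => Gam 𝒜 f hf F n) where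
  smul a s := act a.2 s
  one_smul := fun ⟨n, s⟩ => gam_mk_eq (zero_add n) _ _ (ext_g fun i x hx =>
    (g_act (SetLike.GradedOne.one_mem (A := 𝒜)) s i x hx).trans (by rw [ρ_one, one_smul]))
  mul_smul := fun ⟨d, a⟩ ⟨e, b⟩ ⟨n, s⟩ => gam_mk_eq (add_assoc d e n) _ _ (ext_g fun i x hx => by
    refine (g_act (SetLike.mul_mem_graded a.2 b.2) s i x hx).trans ?_
    rw [ρ_mul 𝒜 f hf i x hx a.2 b.2, mul_smul]
    exact (congrArg _ (g_act b.2 s i x hx).symm).trans (g_act a.2 (act b.2 s) i x hx).symm)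
  smul_add a b c := Subtype.ext (funext fun i => smul_add _ _ _)
  smul_zero a := Subtype.ext (funext fun i => smul_zero _)
  add_smul {d n} a a' b := Subtype.ext (ext_g fun i x hx => by
    simp only [AddSubgroup.coe_add, Pi.add_apply, g, map_add]
    show g 𝒜 f F i x hx ((act (add_mem a.2 a'.2) b).1 i) =
      g 𝒜 f F i x hx ((act a.2 b).1 i) + g 𝒜 f F i x hx ((act a'.2 b).1 i)
    rw [g_act, g_act, g_act, ← add_smul]
    congr 1
    refine V_injective 𝒜 x ?_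
    rw [map_add, V_ρ, V_ρ, V_ρ]
    exact (Localization.add_mk_self _ _ _).symm)
  zero_smul {d n} b := Subtype.ext (ext_g fun i x hx => by
    show g 𝒜 f F i x hx ((act (zero_mem (𝒜 d)) b).1 i) = g 𝒜 f F i x hx ((0 : ∀ i, Γ(F, D 𝒜 f i)) i)
    rw [g_act, ρ_zero, zero_smul]
    exact (map_zero _).symm)

variable (𝒜 f hf F) in
/-- The module `Γ_*(F)` in nonnegative degrees. -/
abbrev GM : Type u := ⨁ n : ℕ, Gam 𝒜 f hf F n

instance moduleGM : Module A (GM 𝒜 f hf F) :=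
  Module.compHom _ (DirectSum.decomposeRingEquiv 𝒜).toRingHom

lemma smul_of {d : ℕ} {a : A} (ha : a ∈ 𝒜 d) {n : ℕ} (s : Gam 𝒜 f hf F n) :
    a • DirectSum.of (fun n => Gam 𝒜 f hf F n) n s = DirectSum.of (fun n => Gam 𝒜 f hf F n) (d + n) (act ha s) := by
  show DirectSum.decompose 𝒜 a • DirectSum.of (fun n => Gam 𝒜 f hf F n) n s = _
  rw [decompose_of_mem 𝒜 ha]
  exact Gmodule.of_smul_of (fun d => 𝒜 d) (fun n => Gam 𝒜 f hf F n) ⟨a, ha⟩ s

lemma g_congr_deg {n n' : ℕ} (h : n = n') (s : Gam 𝒜 f hf F n) :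
    ∃ t : Gam 𝒜 f hf F n', t.1 = s.1 := ⟨h ▸ s, by subst h; rfl⟩

variable [Finite ι] (hF : Coh.IsQCoh F)

lemma ρ_pow (i : ι) (x : Proj 𝒜) (hx : x ∈ D 𝒜 f i) {d : ℕ} {a : A} (ha : a ∈ 𝒜 d) (k : ℕ) :
    ρ 𝒜 f hf i x hx (k * d) (a ^ k) (by simpa using SetLike.pow_mem_graded k ha) =
      ρ 𝒜 f hf i x hx d a ha ^ k := by
  refine V_injective 𝒜 x ?_
  rw [map_pow, V_ρ, V_ρ, Localization.mk_pow]
  exact congrArg _ (Subtype.ext (by rw [SubmonoidClass.coe_pow, ← pow_mul, mul_comm]))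

lemma isAffineOpen_D (hf : ∀ i, f i ∈ 𝒜 1) (i : ι) : IsAffineOpen (D 𝒜 f i) :=
  Proj.isAffineOpen_basicOpen 𝒜 _ (hf i) one_pos

lemma exists_coord (i : ι) (r : Γ(Proj 𝒜, D 𝒜 f i)) : ∃ k a, ∃ ha : a ∈ 𝒜 k, r = rd 𝒜 f hf i k a ha := by
  obtain ⟨q, rfl⟩ := (Proj.basicOpenIsoAway 𝒜 (f i) (hf i) one_pos).commRingCatIsoToRingEquiv.surjective r
  obtain ⟨k, a, ha, rfl⟩ := Away.mk_surjective 𝒜 (hf i) q
  exact ⟨k, a, by simpa using ha, rfl⟩

include hF in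
/-- A chart section extends to a compatible family after raising the degree. -/
theorem exists_extend (i : ι) (t : Γ(F, D 𝒜 f i)) :
    ∃ (n : ℕ) (m : Gam 𝒜 f hf F n), ∀ x (hx : x ∈ D 𝒜 f i), g 𝒜 f F i x hx (m.1 i) = g 𝒜 f F i x hx t := by
  classical
  cases nonempty_fintype ι
  have hmem : ∀ j x, (hj : x ∈ D 𝒜 f j) → x ∈ D 𝒜 f i → x ∈ (Proj 𝒜).basicOpen (rd 𝒜 f hf j 1 (f i) (hf i)) :=
    fun j x hj hi => by
      rw [basicOpen_rd]; exact fun h => (x.isPrime.mem_or_mem h).elim hj hi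
  have hle : ∀ j, (Proj 𝒜).basicOpen (rd 𝒜 f hf j 1 (f i) (hf i)) ≤ D 𝒜 f i := fun j => by
    rw [basicOpen_rd]; exact fun x hx h => hx (x.asHomogeneousIdeal.toIdeal.mul_mem_left _ h)
  choose n z hz using fun j => QCoh.exists_pow_smul_eq_map hF (isAffineOpen_D hf j) (rd 𝒜 f hf j 1 (f i) (hf i))
    (F.presheaf.map (homOfLE (hle j)).op t)
  let n₀ := ∑ j, n j
  let z' : ∀ j, Γ(F, D 𝒜 f j) := fun j => rd 𝒜 f hf j 1 (f i) (hf i) ^ (n₀ - n j) • z j
  have hz' : ∀ j x (hj : x ∈ D 𝒜 f j) (hi : x ∈ D 𝒜 f i),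
      g 𝒜 f F j x hj (z' j) = ρ 𝒜 f hf j x hj 1 (f i) (hf i) ^ n₀ • g 𝒜 f F i x hi t := fun j x hj hi => by
    have hb := hmem j x hj hi
    have h1 := congrArg (F.presheaf.germ _ x hb) (hz j)
    rw [germ_smul', map_pow, F.presheaf.germ_res_apply, F.presheaf.germ_res_apply,
      (Proj 𝒜).presheaf.germ_res_apply] at h1
    simp only [g, z', germ_smul', map_pow]
    rw [h1, smul_smul, ← pow_add, Nat.sub_add_cancel
      (Finset.single_le_sum (f := n) (fun _ _ => Nat.zero_le _) (Finset.mem_univ j))]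
    rfl
  have hk : ∀ p : ι × ι, ∃ k : ℕ, ∀ x (hj : x ∈ D 𝒜 f p.1) (hl : x ∈ D 𝒜 f p.2),
      ρ 𝒜 f hf p.2 x hl 1 (f i) (hf i) ^ k • (g 𝒜 f F p.2 x hl (z' p.2) -
        ρ 𝒜 f hf p.2 x hl 1 (f p.1) (hf p.1) ^ n₀ • g 𝒜 f F p.1 x hj (z' p.1)) = 0 := by
    rintro ⟨j, l⟩
    have hWl : Proj.basicOpen 𝒜 (f j * f l) ≤ D 𝒜 f l := fun x hx h => hx (x.asHomogeneousIdeal.toIdeal.mul_mem_left _ h)
    have hWj : Proj.basicOpen 𝒜 (f j * f l) ≤ D 𝒜 f j := fun x hx h => hx (x.asHomogeneousIdeal.toIdeal.mul_mem_right _ h)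
    set W := Proj.basicOpen 𝒜 (f j * f l) with hW
    have hWa : IsAffineOpen W := Proj.isAffineOpen_basicOpen 𝒜 _ (SetLike.mul_mem_graded (hf j) (hf l)) (by omega)
    let w : Γ(F, W) := F.presheaf.map (homOfLE hWl).op (z' l) -
      (Proj 𝒜).presheaf.map (homOfLE hWl).op (rd 𝒜 f hf l 1 (f j) (hf j)) ^ n₀ • F.presheaf.map (homOfLE hWj).op (z' j)
    let c := (Proj 𝒜).presheaf.map (homOfLE hWl).op (rd 𝒜 f hf l 1 (f i) (hf i))
    have hw : ∀ x (hx : x ∈ W), F.presheaf.germ W x hx w = g 𝒜 f F l x (hWl hx) (z' l) -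
        ρ 𝒜 f hf l x (hWl hx) 1 (f j) (hf j) ^ n₀ • g 𝒜 f F j x (hWj hx) (z' j) := fun x hx => by
      simp only [w, map_sub, germ_smul', map_pow]
      rw [F.presheaf.germ_res_apply, F.presheaf.germ_res_apply, (Proj 𝒜).presheaf.germ_res_apply]
      rfl
    obtain ⟨k, hk⟩ := QCoh.exists_pow_smul_eq_zero hF hWa c w (germ_ext F fun x hx => by
      rw [map_zero, F.presheaf.germ_res_apply]
      have hxW := (Proj 𝒜).basicOpen_le _ hx
      have hi : x ∈ D 𝒜 f i := hle l ((Scheme.basicOpen_res _ _ _).le hx).2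
      rw [hw x hxW, hz' l x (hWl hxW) hi, hz' j x (hWj hxW) hi, smul_smul, ← mul_pow,
        ρ_change 𝒜 f hf j l x (hWj hxW) (hWl hxW) 1 (f i) (hf i), pow_one, sub_self])
    refine ⟨k, fun x hj hl => ?_⟩
    have hxW : x ∈ W := fun h => (x.isPrime.mem_or_mem h).elim hj hl
    have := congrArg (F.presheaf.germ W x hxW) hk
    rw [germ_smul', map_pow, (Proj 𝒜).presheaf.germ_res_apply, map_zero, hw x hxW] at this
    exact this
  choose k hk using hk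
  let N := ∑ p, k p
  refine ⟨N + n₀, ⟨fun j => rd 𝒜 f hf j 1 (f i) (hf i) ^ N • z' j, fun j l x hj hl => ?_⟩, fun x hx => ?_⟩
  · have h0 : ρ 𝒜 f hf l x hl 1 (f i) (hf i) ^ N • (g 𝒜 f F l x hl (z' l) -
        ρ 𝒜 f hf l x hl 1 (f j) (hf j) ^ n₀ • g 𝒜 f F j x hj (z' j)) = 0 := by
      have hkN : k (j, l) ≤ N := Finset.single_le_sum (f := k) (fun _ _ => Nat.zero_le _) (Finset.mem_univ (j, l))
      obtain ⟨r, hr⟩ := Nat.exists_eq_add_of_le' hkN
      rw [hr, pow_add, mul_smul]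
      exact (congrArg _ (hk (j, l) x hj hl)).trans (smul_zero _)
    rw [smul_sub, sub_eq_zero] at h0
    simp only [g, germ_smul', map_pow] at h0 ⊢
    show ρ 𝒜 f hf l x hl 1 (f i) (hf i) ^ N • _ = _ • ρ 𝒜 f hf j x hj 1 (f i) (hf i) ^ N • _
    rw [h0, smul_smul, smul_smul, ρ_change 𝒜 f hf j l x hj hl 1 (f i) (hf i), pow_one, mul_pow, pow_add]
    congr 1
    ring
  · simp only [g, germ_smul', map_pow]
    show ρ 𝒜 f hf i x hx 1 (f i) (hf i) ^ N • g 𝒜 f F i x hx (z' i) = _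
    rw [hz' i x hx hx, ρ_self, one_pow, one_smul, one_pow, one_smul]

include hF in
/-- A family with vanishing germ is killed by a homogeneous element nonvanishing at the point. -/
theorem exists_annihilator {n : ℕ} (m : Gam 𝒜 f hf F n) (i : ι) (x : Proj 𝒜) (hx : x ∈ D 𝒜 f i)
    (h : g 𝒜 f F i x hx (m.1 i) = 0) :
    ∃ (K : ℕ) (c : A) (hc : c ∈ 𝒜 K), c ∉ x.asHomogeneousIdeal ∧ act hc m = 0 := by
  classical
  cases nonempty_fintype ι
  obtain ⟨r, hxr, hr⟩ := (QCoh.germ_eq_zero_iff hF (isAffineOpen_D hf i) hx _).1 h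
  obtain ⟨k, a, ha, rfl⟩ := exists_coord (hf := hf) i r
  rw [basicOpen_rd] at hxr
  have hax : a ∉ x.asHomogeneousIdeal := fun h => hxr (x.asHomogeneousIdeal.toIdeal.mul_mem_left _ h)
  have hi0 : ∀ y (hy : y ∈ D 𝒜 f i), g 𝒜 f F i y hy ((act ha m).1 i) = 0 := fun y hy => by
    show F.presheaf.germ _ y hy (rd 𝒜 f hf i k a ha • m.1 i) = 0
    rw [hr, map_zero]
  have hN : ∀ j, ∃ N : ℕ, rd 𝒜 f hf j 1 (f i) (hf i) ^ N • (act ha m).1 j = 0 := fun j => by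
    refine QCoh.exists_pow_smul_eq_zero hF (isAffineOpen_D hf j) _ _ (germ_ext F fun y hy => ?_)
    have hyi : y ∈ D 𝒜 f i := by
      rw [basicOpen_rd] at hy; exact fun h => hy (y.asHomogeneousIdeal.toIdeal.mul_mem_left _ h)
    rw [map_zero, F.presheaf.germ_res_apply]
    exact ((act ha m).2 i j y hyi ((Proj 𝒜).basicOpen_le _ hy)).trans (by rw [hi0 y hyi, smul_zero])
  choose N hN using hN
  let T := ∑ j, N j
  have hfT : f i ^ T ∈ 𝒜 (T * 1) := by simpa using SetLike.pow_mem_graded T (hf i)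
  refine ⟨T * 1 + k, f i ^ T * a, SetLike.mul_mem_graded hfT ha, ?_, Subtype.ext (ext_g fun j y hy => ?_)⟩
  · exact fun h => (x.isPrime.mem_or_mem h).elim (pow_notMem x.isPrime hx T) hax
  · have hNT : N j ≤ T := Finset.single_le_sum (f := N) (fun _ _ => Nat.zero_le _) (Finset.mem_univ j)
    obtain ⟨r, hr'⟩ := Nat.exists_eq_add_of_le' hNT
    rw [g_act, ρ_mul 𝒜 f hf j y hy hfT ha, mul_smul, ← g_act ha, ρ_pow j y hy (hf i) T, hr', pow_add, mul_smul]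
    have := congrArg (F.presheaf.germ _ y hy) (hN j)
    rw [germ_smul', map_pow, map_zero] at this
    exact (congrArg _ this).trans ((smul_zero _).trans (map_zero _).symm)

end Groth.Agent.GrGamma
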