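import Groth.Agent.GrGamma.Coord
import Groth.Agent.GrModX.Stalk
import Groth.Agent.GrModX.MapProps
import Groth.Agent.RelTildeX.SheafCrit

/-!
# Maps out of `M~` given by compatible chart values of homogeneous elements
-/

noncomputable section

universe u

set_option backward.isDefEq.respectTransparency false
set_option backward.isDefEq.respectTransparency.types false

open CategoryTheory AlgebraicGeometry TopologicalSpace DirectSum Opposite HomogeneousLocalization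
open Groth.Agent.GrModX

namespace Groth.Agent.GrGamma

variable {A σ : Type u} [CommRing A] [SetLike σ A] [AddSubgroupClass σ A] (𝒜 : ℕ → σ) [GradedRing 𝒜]
variable {ι : Type u} (f : ι → A) (hf : ∀ i, f i ∈ 𝒜 1) (F : (Proj 𝒜).Modules)
variable {M τ : Type u} [AddCommGroup M] [Module A M] [SetLike τ M] [AddSubgroupClass τ M] (ℳ : ℕ → τ)

/-- The germ of a section on a chart. -/
abbrev g (i : ι) (x : Proj 𝒜) (hx : x ∈ D 𝒜 f i) (t : Γ(F, D 𝒜 f i)) : F.presheaf.stalk x :=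
  F.presheaf.germ (D 𝒜 f i) x hx t

/-- Chart values of homogeneous elements, read in the stalks. -/
structure Dat where
  cover : ∀ x : Proj 𝒜, ∃ i, x ∈ D 𝒜 f i
  ev : ℕ → M → ∀ i, Γ(F, D 𝒜 f i)
  ev_add : ∀ e m m', m ∈ ℳ e → m' ∈ ℳ e → ∀ i, ev e (m + m') i = ev e m i + ev e m' i
  ev_smul : ∀ d a (ha : a ∈ 𝒜 d) e m, m ∈ ℳ e → ∀ i x (hx : x ∈ D 𝒜 f i),
    g 𝒜 f F i x hx (ev (d + e) (a • m) i) = ρ 𝒜 f hf i x hx d a ha • g 𝒜 f F i x hx (ev e m i)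
  ev_change : ∀ e m, m ∈ ℳ e → ∀ i j x (hi : x ∈ D 𝒜 f i) (hj : x ∈ D 𝒜 f j),
    g 𝒜 f F j x hj (ev e m j) = ρ 𝒜 f hf j x hj 1 (f i) (hf i) ^ e • g 𝒜 f F i x hi (ev e m i)

variable {𝒜 f hf F ℳ}
variable (d : Dat 𝒜 f hf F ℳ)

lemma Dat.ev_zero (e : ℕ) (i : ι) : d.ev e 0 i = 0 := by
  have := d.ev_add e 0 0 (zero_mem _) (zero_mem _) i
  rwa [add_zero, left_eq_add] at this

lemma Dat.ev_sub {e : ℕ} {m m' : M} (hm : m ∈ ℳ e) (hm' : m' ∈ ℳ e) (i : ι) :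
    d.ev e (m - m') i = d.ev e m i - d.ev e m' i := by
  have := d.ev_add e (m - m') m' (sub_mem hm hm') hm' i
  rw [sub_add_cancel] at this
  rw [this, add_sub_cancel_right]

variable [SetLike.GradedSMul 𝒜 ℳ] [DirectSum.Decomposition ℳ]

lemma Dat.g_smul {k : ℕ} {a : A} (ha : a ∈ 𝒜 k) {e n : ℕ} {m : M} (hm : m ∈ ℳ e) (hn : n = k + e) (i : ι)
    (x : Proj 𝒜) (hx : x ∈ D 𝒜 f i) :
    g 𝒜 f F i x hx (d.ev n (a • m) i) = ρ 𝒜 f hf i x hx k a ha • g 𝒜 f F i x hx (d.ev e m i) := by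
  subst hn; exact d.ev_smul k a ha e m hm i x hx

omit [SetLike.GradedSMul 𝒜 ℳ] [DirectSum.Decomposition ℳ] in
lemma exists_homogeneous_notMem (x : Proj 𝒜) {c : A} (hc : c ∉ x.asHomogeneousIdeal) :
    ∃ k : ℕ, GradedRing.proj 𝒜 k c ∉ x.asHomogeneousIdeal := by
  classical
  by_contra! hall
  exact hc (by rw [← sum_support_decompose 𝒜 c]; exact Ideal.sum_mem _ fun i _ => hall i)

/-- Two fractions with the same value have proportional chart values. -/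
lemma Dat.cross {e e' : ℕ} {m m' : M} (hm : m ∈ ℳ e) (hm' : m' ∈ ℳ e') {s s' : A} (hs : s ∈ 𝒜 e) (hs' : s' ∈ 𝒜 e')
    (x : Proj 𝒜) (hsx : s ∉ x.asHomogeneousIdeal) (hsx' : s' ∉ x.asHomogeneousIdeal)
    (h : (LocalizedModule.mk m ⟨s, hsx⟩ : GrMod.LocMod 𝒜 (M := M) x) = LocalizedModule.mk m' ⟨s', hsx'⟩)
    (i : ι) (hi : x ∈ D 𝒜 f i) :
    ρ 𝒜 f hf i x hi e' s' hs' • g 𝒜 f F i x hi (d.ev e m i) =
      ρ 𝒜 f hf i x hi e s hs • g 𝒜 f F i x hi (d.ev e' m' i) := by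
  obtain ⟨⟨c, hc⟩, hceq⟩ := LocalizedModule.mk_eq.1 h
  have hw : s • m' ∈ ℳ (e' + e) := Nat.add_comm e e' ▸ (SetLike.GradedSMul.smul_mem hs hm' : s • m' ∈ ℳ (e + e'))
  have hw' : s' • m ∈ ℳ (e' + e) := SetLike.GradedSMul.smul_mem hs' hm
  have hz : c • (s' • m - s • m') = 0 := by
    rw [smul_sub, sub_eq_zero]; simpa only [Submonoid.smul_def] using hceq
  obtain ⟨k, hk⟩ := exists_homogeneous_notMem x hc
  have hmem : GradedRing.proj 𝒜 k c ∈ 𝒜 k := SetLike.coe_mem _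
  have h0 := proj_smul_eq_zero 𝒜 (sub_mem hw' hw) hz k
  have h1 := d.g_smul hmem (sub_mem hw' hw) rfl i x hi
  rw [h0, d.ev_zero] at h1
  simp only [g, map_zero] at h1
  have h2 := ((isUnit_ρ 𝒜 f hf i x hi k _ hmem hk).smul_eq_zero).1 h1.symm
  rw [d.ev_sub hw' hw, map_sub, sub_eq_zero] at h2
  rw [← d.g_smul hs' hm rfl, ← d.g_smul hs hm' (Nat.add_comm e' e)]
  exact h2

/-- `v` is the value of the fraction `q`. -/
def Dat.Rel (x : Proj 𝒜) (q : GrMod.LocMod 𝒜 (M := M) x) (v : F.presheaf.stalk x) : Prop :=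
  ∀ e m s, m ∈ ℳ e → ∀ (hs : s ∈ 𝒜 e) (hsx : s ∉ x.asHomogeneousIdeal), q = LocalizedModule.mk m ⟨s, hsx⟩ →
    ∀ i (hi : x ∈ D 𝒜 f i), ρ 𝒜 f hf i x hi e s hs • v = g 𝒜 f F i x hi (d.ev e m i)

lemma Dat.rel_of_one (x : Proj 𝒜) {e : ℕ} {m : M} {s : A} (hm : m ∈ ℳ e) (hs : s ∈ 𝒜 e)
    (hsx : s ∉ x.asHomogeneousIdeal) {v : F.presheaf.stalk x} (i : ι) (hi : x ∈ D 𝒜 f i)
    (h : ρ 𝒜 f hf i x hi e s hs • v = g 𝒜 f F i x hi (d.ev e m i)) :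
    d.Rel x (LocalizedModule.mk m ⟨s, hsx⟩) v := by
  intro e' m' s' hm' hs' hsx' heq j hj
  have hj' : ρ 𝒜 f hf j x hj e s hs • v = g 𝒜 f F j x hj (d.ev e m j) := by
    rw [d.ev_change e m hm i j x hi hj, ← h, ρ_change 𝒜 f hf i j x hi hj e s hs, mul_smul]
  have hc := d.cross hm hm' hs hs' x hsx hsx' heq j hj
  rw [← hj', smul_smul, mul_comm, ← smul_smul] at hc
  exact (isUnit_ρ 𝒜 f hf j x hj e s hs hsx).smul_left_cancel.1 hc

lemma exists_rep (x : Proj 𝒜) (q : GrMod.tildeAt 𝒜 ℳ 0 x) :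
    ∃ (e : ℕ) (m : M) (s : A) (_ : m ∈ ℳ e) (_ : s ∈ 𝒜 e) (hsx : s ∉ x.asHomogeneousIdeal),
      (q : GrMod.LocMod 𝒜 (M := M) x) = LocalizedModule.mk m ⟨s, hsx⟩ := by
  obtain ⟨j, s, hs, hsx, m, hm, hq⟩ := exists_repr_tildeAt 𝒜 ℳ 0 x q.2
  refine ⟨j, m, s, ?_, hs, hsx, hq⟩
  rcases hm with rfl | ⟨i, hi, hm⟩
  · exact zero_mem _
  · have : i = j := by omega
    exact this ▸ hm

lemma Dat.existsUnique_rel (x : Proj 𝒜) (q : GrMod.tildeAt 𝒜 ℳ 0 x) :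
    ∃! v, d.Rel x (q : GrMod.LocMod 𝒜 (M := M) x) v := by
  obtain ⟨e, m, s, hm, hs, hsx, hq⟩ := exists_rep x q
  obtain ⟨i, hi⟩ := d.cover x
  obtain ⟨u, hu⟩ := isUnit_ρ 𝒜 f hf i x hi e s hs hsx
  refine ⟨(↑u⁻¹ : (Proj 𝒜).presheaf.stalk x) • g 𝒜 f F i x hi (d.ev e m i), ?_, fun v hv => ?_⟩
  · rw [hq]
    refine d.rel_of_one x hm hs hsx i hi ?_
    rw [← hu, smul_smul, Units.mul_inv, one_smul]
  · have := hv e m s hm hs hsx hq i hi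
    rw [← this, ← hu, smul_smul, Units.inv_mul, one_smul]

/-- The value in the stalk of a degree zero fraction. -/
def Dat.ψ (x : Proj 𝒜) (q : GrMod.tildeAt 𝒜 ℳ 0 x) : F.presheaf.stalk x :=
  (d.existsUnique_rel x q).choose

lemma Dat.rel_ψ (x : Proj 𝒜) (q : GrMod.tildeAt 𝒜 ℳ 0 x) : d.Rel x q (d.ψ x q) :=
  (d.existsUnique_rel x q).choose_spec.1

lemma Dat.ψ_eq_of (x : Proj 𝒜) (q : GrMod.tildeAt 𝒜 ℳ 0 x) {e : ℕ} {m : M} {s : A} (hm : m ∈ ℳ e) (hs : s ∈ 𝒜 e)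
    (hsx : s ∉ x.asHomogeneousIdeal) (hq : (q : GrMod.LocMod 𝒜 (M := M) x) = LocalizedModule.mk m ⟨s, hsx⟩)
    (i : ι) (hi : x ∈ D 𝒜 f i) {v : F.presheaf.stalk x}
    (h : ρ 𝒜 f hf i x hi e s hs • v = g 𝒜 f F i x hi (d.ev e m i)) : d.ψ x q = v :=
  ((d.existsUnique_rel x q).choose_spec.2 v (hq ▸ d.rel_of_one x hm hs hsx i hi h)).symm

lemma Dat.ψ_add (x : Proj 𝒜) (q q' : GrMod.tildeAt 𝒜 ℳ 0 x) : d.ψ x (q + q') = d.ψ x q + d.ψ x q' := by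
  obtain ⟨e, m, s, hm, hs, hsx, hq⟩ := exists_rep x q
  obtain ⟨e', m', s', hm', hs', hsx', hq'⟩ := exists_rep x q'
  obtain ⟨i, hi⟩ := d.cover x
  have h1 : s' • m ∈ ℳ (e + e') := Nat.add_comm e' e ▸ (SetLike.GradedSMul.smul_mem hs' hm : s' • m ∈ ℳ (e' + e))
  have h2 : s • m' ∈ ℳ (e + e') := SetLike.GradedSMul.smul_mem hs hm'
  refine d.ψ_eq_of x _ (add_mem h1 h2) (SetLike.mul_mem_graded hs hs')
    (fun h => (x.isPrime.mem_or_mem h).elim hsx hsx') ?_ i hi ?_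
  · rw [Submodule.coe_add, hq, hq', LocalizedModule.mk_add_mk]
    rfl
  · rw [ρ_mul 𝒜 f hf i x hi hs hs', smul_add, mul_smul, mul_smul, d.rel_ψ x q' e' m' s' hm' hs' hsx' hq' i hi, smul_comm,
      d.rel_ψ x q e m s hm hs hsx hq i hi, ← d.g_smul hs' hm (Nat.add_comm e e'), ← d.g_smul hs hm' rfl,
      d.ev_add _ _ _ h1 h2]
    exact (map_add _ _ _).symm

lemma Dat.ψ_smul (x : Proj 𝒜) (c : GrTwist.A0 𝒜 x) (q : GrMod.tildeAt 𝒜 ℳ 0 x) :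
    d.ψ x (c • q) = φ0 𝒜 x c • d.ψ x q := by
  obtain ⟨e, m, s, hm, hs, hsx, hq⟩ := exists_rep x q
  obtain ⟨i, hi⟩ := d.cover x
  obtain ⟨⟨k, ⟨a, ha⟩, ⟨b, hb⟩, hbx⟩, rfl⟩ := HomogeneousLocalization.mk_surjective c
  have key : ρ 𝒜 f hf i x hi k b hb * φ0 𝒜 x (HomogeneousLocalization.mk ⟨k, ⟨a, ha⟩, ⟨b, hb⟩, hbx⟩) =
      ρ 𝒜 f hf i x hi k a ha := by
    refine V_injective 𝒜 x ?_
    rw [map_mul, V_ρ, V_ρ, V_φ0, HomogeneousLocalization.val_mk, Localization.mk_mul, Localization.mk_eq_mk_iff,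
      Localization.r_iff_exists]
    refine ⟨1, ?_⟩
    simp only [OneMemClass.coe_one, one_mul, Submonoid.coe_mul]
    ring
  refine d.ψ_eq_of x _ (e := k + e) (SetLike.GradedSMul.smul_mem ha hm) (SetLike.mul_mem_graded hb hs)
    (fun h => (x.isPrime.mem_or_mem h).elim hbx hsx) ?_ i hi ?_
  · rw [GrMod.coe_smul_val, hq, HomogeneousLocalization.val_mk, LocalizedModule.mk_smul_mk]
    rfl
  · refine Eq.trans ?_ (d.g_smul ha hm rfl i x hi).symm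
    rw [← d.rel_ψ x q e m s hm hs hsx hq i hi, ρ_mul 𝒜 f hf i x hi hb hs, smul_smul, smul_smul,
      ← key]
    congr 1
    ring

omit [SetLike.GradedSMul 𝒜 ℳ] [DirectSum.Decomposition ℳ] in
/-- A family of germs which are locally those of sections comes from a section. -/
lemma exists_section_of_germs {X : Scheme.{u}} (G : X.Modules) (U : X.Opens) (v : ∀ x : U, G.presheaf.stalk x.1)
    (h : ∀ x : U, ∃ (W : X.Opens) (_ : W ≤ U) (t : Γ(G, W)), x.1 ∈ W ∧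
      ∀ y (hy : y ∈ W) (hyU : y ∈ U), G.presheaf.germ W y hy t = v ⟨y, hyU⟩) :
    ∃ t : Γ(G, U), ∀ x (hx : x ∈ U), G.presheaf.germ U x hx t = v ⟨x, hx⟩ := by
  choose W hW t hxW ht using h
  let S : TopCat.Sheaf AddCommGrpCat.{u} X.toTopCat := ⟨G.presheaf, G.isSheaf⟩
  have hcompat : TopCat.Presheaf.IsCompatible S.1 W t := fun a b => by
    refine TopCat.Presheaf.section_ext S _ _ _ fun y hy => ?_
    show G.presheaf.germ (W a ⊓ W b) y hy (G.presheaf.map _ (t a)) = G.presheaf.germ (W a ⊓ W b) y hy (G.presheaf.map _ (t b))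
    rw [G.presheaf.germ_res_apply, G.presheaf.germ_res_apply, ht a y hy.1 (hW a hy.1), ht b y hy.2 (hW a hy.1)]
  obtain ⟨s, hs, -⟩ := S.existsUnique_gluing' W U (fun a => homOfLE (hW a))
    (fun x hx => Opens.mem_iSup.2 ⟨⟨x, hx⟩, hxW ⟨x, hx⟩⟩) t hcompat
  refine ⟨s, fun x hx => ?_⟩
  rw [← ht ⟨x, hx⟩ x (hxW ⟨x, hx⟩) hx, ← hs ⟨x, hx⟩]
  exact (G.presheaf.germ_res_apply _ _ _ _).symm

lemma Dat.exists_section {U : (Proj 𝒜).Opens} (s : Γ(GrMod.tilde 𝒜 ℳ 0, U)) :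
    ∃ t : Γ(F, U), ∀ x (hx : x ∈ U), F.presheaf.germ U x hx t = d.ψ x ((s : GrMod.sect 𝒜 ℳ 0 (op U)).1 ⟨x, hx⟩) := by
  refine exists_section_of_germs F U (fun x => d.ψ x.1 ((s : GrMod.sect 𝒜 ℳ 0 (op U)).1 x)) fun x => ?_
  obtain ⟨V', hxV, iV, i', j, ⟨m, hm⟩, ⟨b, hb⟩, nin, hcond, hw⟩ := (s : GrMod.sect 𝒜 ℳ 0 (op U)).2 x
  have hm' : m ∈ ℳ j := by
    rcases hcond with h | h
    · have : i' = j := by omega
      exact this ▸ hm
    · rw [show m = 0 from h]; exact zero_mem _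
  obtain ⟨i, hi⟩ := d.cover x.1
  let W : (Proj 𝒜).Opens := V' ⊓ D 𝒜 f i
  have hWi : W ≤ D 𝒜 f i := inf_le_right
  have hu : IsUnit ((Proj 𝒜).presheaf.map (homOfLE hWi).op (rd 𝒜 f hf i j b hb)) := by
    refine RingedSpace.isUnit_of_isUnit_germ (Proj 𝒜).toRingedSpace W _ fun y hy => ?_
    show IsUnit ((Proj 𝒜).presheaf.germ W y hy _)
    rw [(Proj 𝒜).presheaf.germ_res_apply]
    exact isUnit_ρ 𝒜 f hf i y (hWi hy) j b hb (nin ⟨y, hy.1⟩)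
  obtain ⟨u, hu⟩ := hu
  refine ⟨W, inf_le_left.trans iV.le, (↑u⁻¹ : Γ(Proj 𝒜, W)) • F.presheaf.map (homOfLE hWi).op (d.ev j m i),
    ⟨hxV, hi⟩, fun y hy hyU => ?_⟩
  refine (d.ψ_eq_of y _ hm' hb (nin ⟨y, hy.1⟩) (hw ⟨y, hy.1⟩) i (hWi hy) ?_).symm
  rw [ρ, ← (Proj 𝒜).presheaf.germ_res_apply (homOfLE hWi) y hy, ← hu, ← QCoh.germ_smul', smul_smul, Units.mul_inv,
    one_smul, F.presheaf.germ_res_apply]

lemma germ_ext {X : Scheme.{u}} (G : X.Modules) {U : X.Opens} {s t : Γ(G, U)}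
    (h : ∀ x (hx : x ∈ U), G.presheaf.germ U x hx s = G.presheaf.germ U x hx t) : s = t :=
  TopCat.Presheaf.section_ext (⟨G.presheaf, G.isSheaf⟩ : TopCat.Sheaf AddCommGrpCat.{u} X.toTopCat) U s t h

/-- The section attached to a section of `M~`. -/
def Dat.app' (U : (Proj 𝒜).Opens) (s : Γ(GrMod.tilde 𝒜 ℳ 0, U)) : Γ(F, U) := (d.exists_section s).choose

lemma Dat.germ_app' {U : (Proj 𝒜).Opens} (s : Γ(GrMod.tilde 𝒜 ℳ 0, U)) (x : Proj 𝒜) (hx : x ∈ U) :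
    F.presheaf.germ U x hx (d.app' U s) = d.ψ x ((s : GrMod.sect 𝒜 ℳ 0 (op U)).1 ⟨x, hx⟩) :=
  (d.exists_section s).choose_spec x hx

/-- The morphism out of `M~`. -/
def Dat.hom : GrMod.tilde 𝒜 ℳ 0 ⟶ F where
  val := PresheafOfModules.homMk
    { app := fun U => AddCommGrpCat.ofHom (AddMonoidHom.mk' (fun s => d.app' U.unop s) fun s t =>
        germ_ext F fun x hx => by
          rw [map_add, d.germ_app', d.germ_app', d.germ_app']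
          exact d.ψ_add x _ _)
      naturality := fun U V i => by
        refine ConcreteCategory.hom_ext _ _ fun s => germ_ext F (U := V.unop) fun x hx => ?_
        show F.presheaf.germ V.unop x hx (d.app' V.unop ((GrMod.tilde 𝒜 ℳ 0).presheaf.map i s)) =
          F.presheaf.germ V.unop x hx (F.presheaf.map i (d.app' U.unop s))
        rw [d.germ_app', ← i.op_unop, F.presheaf.germ_res_apply, d.germ_app']
        rfl }
    fun U r s => germ_ext F (U := U.unop) fun x hx => by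
      show F.presheaf.germ U.unop x hx (d.app' U.unop (r • s)) =
        F.presheaf.germ U.unop x hx (@HSMul.hSMul Γ(Proj 𝒜, U.unop) Γ(F, U.unop) _ _ r (d.app' U.unop s))
      rw [QCoh.germ_smul', d.germ_app', d.germ_app', germ_eq_φ0]
      exact d.ψ_smul x _ _

lemma Dat.germ_hom {U : (Proj 𝒜).Opens} (s : Γ(GrMod.tilde 𝒜 ℳ 0, U)) (x : Proj 𝒜) (hx : x ∈ U) :
    F.presheaf.germ U x hx (d.hom.app U s) = d.ψ x ((s : GrMod.sect 𝒜 ℳ 0 (op U)).1 ⟨x, hx⟩) :=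
  d.germ_app' s x hx

/-- The map is an isomorphism if the chart values detect and exhaust all germs. -/
theorem Dat.isIso_hom
    (hinj : ∀ e m, m ∈ ℳ e → ∀ i x (hi : x ∈ D 𝒜 f i), g 𝒜 f F i x hi (d.ev e m i) = 0 →
      ∃ c : A, c ∉ x.asHomogeneousIdeal ∧ c • m = 0)
    (hsurj : ∀ (x : Proj 𝒜) (v : F.presheaf.stalk x), ∃ e, ∃ m ∈ ℳ e, ∃ s, ∃ hs : s ∈ 𝒜 e,
      s ∉ x.asHomogeneousIdeal ∧ ∃ i, ∃ hi : x ∈ D 𝒜 f i,
        ρ 𝒜 f hf i x hi e s hs • v = g 𝒜 f F i x hi (d.ev e m i)) :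
    IsIso d.hom := by
  haveI : Mono d.hom := by
    refine QCoh.mono_of_app_injective _ fun U => (injective_iff_map_eq_zero _).2 fun s hs => ?_
    refine ext_val 𝒜 ℳ fun y => ?_
    obtain ⟨e, m, b, hm, hb, hbx, hq⟩ := exists_rep (ℳ := ℳ) y.1 ((s : GrMod.sect 𝒜 ℳ 0 (op U)).1 y)
    obtain ⟨i, hi⟩ := d.cover y.1
    have h1 := d.rel_ψ y.1 _ e m b hm hb hbx hq i hi
    have h2 := d.germ_hom s y.1 y.2
    rw [hs, map_zero] at h2
    have h3 : d.ψ y.1 ((s : GrMod.sect 𝒜 ℳ 0 (op U)).1 y) = 0 := h2.symm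
    rw [h3, smul_zero] at h1
    obtain ⟨c, hc, hcm⟩ := hinj e m hm i y.1 hi h1.symm
    exact hq.trans ((mk_eq_zero_iff 𝒜 y.1 _ _).mpr ⟨c, hc, hcm⟩)
  haveI : Epi d.hom := by
    refine RelTildeX.epi_of_locally _ fun U t x hx => ?_
    obtain ⟨e, m, hm, b, hb, hbx, i, hi, heq⟩ := hsurj x (F.presheaf.germ U x hx t)
    have hWU : U ⊓ (D 𝒜 f i ⊓ Proj.basicOpen 𝒜 b) ≤ U := inf_le_left
    have hWi : U ⊓ (D 𝒜 f i ⊓ Proj.basicOpen 𝒜 b) ≤ D 𝒜 f i := inf_le_right.trans inf_le_left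
    set W : (Proj 𝒜).Opens := U ⊓ (D 𝒜 f i ⊓ Proj.basicOpen 𝒜 b) with hW
    have hxW : x ∈ W := ⟨hx, hi, hbx⟩
    obtain ⟨W', hxW', i₁, i₂, hW'⟩ := F.presheaf.germ_eq x hxW hxW
      ((Proj 𝒜).presheaf.map (homOfLE hWi).op (rd 𝒜 f hf i e b hb) • F.presheaf.map (homOfLE hWU).op t)
      (F.presheaf.map (homOfLE hWi).op (d.ev e m i))
      (by rw [QCoh.germ_smul', F.presheaf.germ_res_apply, F.presheaf.germ_res_apply,
            (Proj 𝒜).presheaf.germ_res_apply]; exact heq)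
    have hnin : ∀ y : W', b ∉ y.1.asHomogeneousIdeal := fun y => (i₁.le y.2).2.2
    refine ⟨W', i₁.le.trans hWU, hxW', fracSect 𝒜 ℳ 0 W' hb hnin
      (Deg.congr (by omega) (deg_of_mem hm)), germ_ext F fun y hy => ?_⟩
    rw [d.germ_hom, F.presheaf.germ_res_apply]
    refine d.ψ_eq_of y _ hm hb (hnin ⟨y, hy⟩) rfl i (hWi (i₁.le hy)) ?_
    have := congrArg (F.presheaf.germ W' y hy) hW'
    rw [F.presheaf.germ_res_apply, F.presheaf.germ_res_apply, QCoh.germ_smul', F.presheaf.germ_res_apply,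
      F.presheaf.germ_res_apply, (Proj 𝒜).presheaf.germ_res_apply] at this
    exact this
  exact isIso_of_mono_of_epi _

end Groth.Agent.GrGamma
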