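import Groth.Agent.GrGamma.Tilde
import Groth.Agent.QCoh.FT

/-!
# Finite type modules on `Proj` come from finitely generated graded modules
-/

noncomputable section

universe u

set_option backward.isDefEq.respectTransparency false
set_option backward.isDefEq.respectTransparency.types false
set_option synthInstance.maxHeartbeats 400000
set_option maxHeartbeats 1000000

open CategoryTheory AlgebraicGeometry TopologicalSpace DirectSum Opposite HomogeneousLocalization

namespace Groth.Agent.GrGamma

variable {R A : Type u} [CommRing R] [CommRing A] [Algebra R A] {𝒜 : ℕ → Submodule R A} [GradedAlgebra 𝒜]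

lemma cover_of_span {ι : Type u} {f : ι → A}
    (hs : (HomogeneousIdeal.irrelevant 𝒜).toIdeal ≤ Ideal.span (Set.range f)) (x : Proj 𝒜) : ∃ i, x ∈ D 𝒜 f i := by
  by_contra! h
  refine x.not_irrelevant_le fun a ha => ?_
  exact (Ideal.span_le.2 (by rintro _ ⟨i, rfl⟩; exact not_not.1 (h i))) (hs ha)

variable {ι : Type u} {f : ι → A} {hf : ∀ i, f i ∈ 𝒜 1} {F : (Proj 𝒜).Modules}

/-- The submodule of elements all whose components lie in `N`. -/
def homogeneousCore (N : Submodule A (GM 𝒜 f hf F)) : Submodule A (GM 𝒜 f hf F) where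
  carrier := {x | x ∈ N ∧ ∀ k, DirectSum.of (fun n => Gam 𝒜 f hf F n) k (x k) ∈ N}
  zero_mem' := ⟨zero_mem _, fun k => by rw [DirectSum.zero_apply, map_zero]; exact zero_mem _⟩
  add_mem' ha hb := ⟨add_mem ha.1 hb.1, fun k => by rw [DirectSum.add_apply, map_add]; exact add_mem (ha.2 k) (hb.2 k)⟩
  smul_mem' c x hx := by
    classical
    refine ⟨N.smul_mem c hx.1, fun k => ?_⟩
    induction c using Decomposition.inductionOn 𝒜 with
    | zero => rw [zero_smul, DirectSum.zero_apply, map_zero]; exact zero_mem _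
    | @homogeneous d a =>
      have hterm : ∀ e, DirectSum.of (fun n => Gam 𝒜 f hf F n) k
          (((a : A) • DirectSum.of (fun n => Gam 𝒜 f hf F n) e (x e) : GM 𝒜 f hf F) k) ∈ N := fun e => by
        rw [smul_of a.2]
        by_cases h : d + e = k
        · subst h
          rw [DirectSum.of_eq_same, ← smul_of a.2]
          exact N.smul_mem _ (hx.2 e)
        · rw [DirectSum.of_eq_of_ne _ _ _ (Ne.symm h), map_zero]
          exact zero_mem _
      rw [← DirectSum.sum_support_of x, Finset.smul_sum, DFinsupp.finsetSum_apply, map_sum]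
      exact sum_mem fun e _ => hterm e
    | add a b ha hb => rw [add_smul, DirectSum.add_apply, map_add]; exact add_mem ha hb

variable [Finite ι]

theorem exists_finite_iso (hF : Coh.IsQCoh F) (hFT : CohB1.IsFT F) (cov : ∀ x : Proj 𝒜, ∃ i, x ∈ D 𝒜 f i) :
    ∃ N : Submodule A (GM 𝒜 f hf F), N.FG ∧
      ∃ (_ : DirectSum.Decomposition (subGrade (R := R) N)),
        Nonempty (GrTilde.tilde 𝒜 (subGrade (R := R) N) 0 ≅ F) := by
  classical
  cases nonempty_fintype ι
  choose s hs using fun i => (QCoh.finite_of_isFT hF hFT (isAffineOpen_D hf i)).fg_top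
  choose n m hm using fun p : (Σ i, {t // t ∈ s i}) => exists_extend (hf := hf) hF p.1 p.2.1
  let gen : (Σ i, {t // t ∈ s i}) → GM 𝒜 f hf F := fun p => DirectSum.of (fun n => Gam 𝒜 f hf F n) (n p) (m p)
  let N : Submodule A (GM 𝒜 f hf F) := Submodule.span A (Set.range gen)
  have hN : N ≤ homogeneousCore N := Submodule.span_le.2 <| by
    rintro _ ⟨p, rfl⟩
    refine ⟨Submodule.subset_span ⟨p, rfl⟩, fun k => ?_⟩
    by_cases h : n p = k
    · subst h
      rw [DirectSum.of_eq_same]
      exact Submodule.subset_span ⟨p, rfl⟩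
    · rw [DirectSum.of_eq_of_ne _ _ _ (Ne.symm h), map_zero]
      exact zero_mem _
  refine ⟨N, Submodule.fg_span (Set.finite_range gen), exists_iso N (fun x hx => (hN hx).2) hF cov fun i t => ?_⟩
  have htop : (⊤ : Submodule Γ(Proj 𝒜, D 𝒜 f i) Γ(F, D 𝒜 f i)) ≤ realised N i := by
    rw [← hs i, Submodule.span_le]
    exact fun t ht => ⟨n ⟨i, t, ht⟩, m ⟨i, t, ht⟩, Submodule.subset_span ⟨⟨i, t, ht⟩, rfl⟩, hm ⟨i, t, ht⟩⟩
  exact htop (Submodule.mem_top (x := t))

end Groth.Agent.GrGamma
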