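import Groth.Agent.GrGamma.Gamma
import Groth.Agent.QCoh.SupportFT
import Groth.Agent.GrModX.Finite
import Groth.Prelude.Def_GrMod2

/-!
# Every quasi-coherent module on `Proj` is `M~`
-/

noncomputable section

universe u

set_option backward.isDefEq.respectTransparency false
set_option backward.isDefEq.respectTransparency.types false
set_option synthInstance.maxHeartbeats 400000

open CategoryTheory AlgebraicGeometry TopologicalSpace DirectSum Opposite HomogeneousLocalization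
open Groth.Agent.GrModX Groth.Agent.QCoh

namespace Groth.Agent.GrGamma

section generic

variable {A σ : Type u} [CommRing A] [SetLike σ A] [AddSubgroupClass σ A] {𝒜 : ℕ → σ} [GradedRing 𝒜]
variable {ι : Type u} {f : ι → A} {hf : ∀ i, f i ∈ 𝒜 1} {F : (Proj 𝒜).Modules}
variable {M τ : Type u} [AddCommGroup M] [Module A M] [SetLike τ M] [AddSubgroupClass τ M] {ℳ : ℕ → τ}
variable [SetLike.GradedSMul 𝒜 ℳ]
variable (cov : ∀ x : Proj 𝒜, ∃ i, x ∈ D 𝒜 f i) (v : M →ₗ[A] GM 𝒜 f hf F)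
  (hv : ∀ e m, m ∈ ℳ e → ∃ y : Gam 𝒜 f hf F e, v m = DirectSum.of (fun n => Gam 𝒜 f hf F n) e y)

/-- The chart values of a graded module mapping to `Γ_*(F)`. -/
def datOf : Dat 𝒜 f hf F ℳ where
  cover := cov
  ev e m i := (v m e).1 i
  ev_add e m m' _ _ i := by rw [map_add]; rfl
  ev_smul d a ha e m hm i x hx := by
    obtain ⟨y, hy⟩ := hv e m hm
    rw [map_smul, hy, smul_of ha y, DirectSum.of_eq_same, DirectSum.of_eq_same]
    exact g_act ha y i x hx
  ev_change e m hm i j x hi hj := by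
    obtain ⟨y, hy⟩ := hv e m hm
    rw [hy, DirectSum.of_eq_same]
    exact y.2 i j x hi hj

variable [Finite ι] [DirectSum.Decomposition ℳ] (hF : Coh.IsQCoh F)

include hF in
theorem isIso_datOf (hinj : Function.Injective v)
    (hsurj : ∀ i (t : Γ(F, D 𝒜 f i)), ∃ e, ∃ m ∈ ℳ e, ∀ x (hx : x ∈ D 𝒜 f i),
      g 𝒜 f F i x hx ((v m e).1 i) = g 𝒜 f F i x hx t) :
    IsIso (datOf cov v hv).hom := by
  refine (datOf cov v hv).isIso_hom (fun e m hm i x hi h => ?_) fun x w => ?_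
  · obtain ⟨y, hy⟩ := hv e m hm
    change g 𝒜 f F i x hi ((v m e).1 i) = 0 at h
    rw [hy, DirectSum.of_eq_same] at h
    obtain ⟨K, c, hc, hcx, hc0⟩ := exists_annihilator hF y i x hi h
    refine ⟨c, hcx, hinj ?_⟩
    rw [map_smul, hy, smul_of hc y, hc0, map_zero, map_zero]
  · obtain ⟨i, hi⟩ := cov x
    obtain ⟨W, hxW, t₀, rfl⟩ := TopCat.Presheaf.exists_germ_eq F.presheaf w
    obtain ⟨r, hr, hxr⟩ := (isAffineOpen_D hf i).exists_basicOpen_le ⟨x, hxW⟩ hi
    obtain ⟨l, t, ht⟩ := QCoh.exists_pow_smul_eq_map hF (isAffineOpen_D hf i) r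
      (F.presheaf.map (homOfLE hr).op t₀)
    obtain ⟨k, a, ha, rfl⟩ := exists_coord (hf := hf) i r
    have hax : a ∉ x.asHomogeneousIdeal := fun h => by
      rw [basicOpen_rd] at hxr
      exact hxr (x.asHomogeneousIdeal.toIdeal.mul_mem_left _ h)
    have h1 := congrArg (F.presheaf.germ _ x hxr) ht
    rw [germ_smul', map_pow, F.presheaf.germ_res_apply, F.presheaf.germ_res_apply,
      (Proj 𝒜).presheaf.germ_res_apply] at h1
    obtain ⟨n, m, hm, hgm⟩ := hsurj i t
    have hal : a ^ l ∈ 𝒜 (l * k) := by simpa using SetLike.pow_mem_graded l ha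
    have hfn : f i ^ n ∈ 𝒜 (n * 1) := by simpa using SetLike.pow_mem_graded n (hf i)
    have hfl : f i ^ (l * k) ∈ 𝒜 (l * k * 1) := by simpa using SetLike.pow_mem_graded (l * k) (hf i)
    refine ⟨l * k + n, f i ^ (l * k) • m,
      by simpa using (SetLike.GradedSMul.smul_mem hfl hm : f i ^ (l * k) • m ∈ ℳ (l * k * 1 + n)),
      a ^ l * f i ^ n, by simpa using SetLike.mul_mem_graded hal hfn, ?_, i, hi, ?_⟩
    · exact fun h => (x.isPrime.mem_or_mem h).elim (pow_notMem x.isPrime hax l) (pow_notMem x.isPrime hi n)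
    · rw [ρ_congr 𝒜 f hf i x hi _ (SetLike.mul_mem_graded hal hfn) (by rw [mul_one]) rfl,
        ρ_mul 𝒜 f hf i x hi hal hfn, ρ_pow i x hi ha l, ρ_pow i x hi (hf i) n, ρ_self, one_pow, mul_one,
        (datOf cov v hv).g_smul hfl hm (by rw [mul_one]) i x hi, ρ_pow i x hi (hf i) (l * k), ρ_self, one_pow,
        one_smul]
      exact h1.symm.trans (hgm x hi).symm

end generic

section internal

variable {G : ℕ → Type u} [∀ n, AddCommGroup (G n)] {H τ' : Type u} [AddCommGroup H] [SetLike τ' H] [AddSubgroupClass τ' H]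

theorem isInternal_of_injective (j : H →+ ⨁ n, G n) (hj : Function.Injective j) (S : ℕ → τ')
    (hS : ∀ n h, h ∈ S n → ∃ y, j h = DirectSum.of G n y) (hS' : ∀ n h y, j h = DirectSum.of G n y → h ∈ S n)
    (hc : ∀ h k, ∃ h', j h' = DirectSum.of G k (j h k)) : DirectSum.IsInternal S := by
  classical
  have key : ∀ (X : ⨁ n, S n) (k : ℕ), j (DirectSum.coeAddMonoidHom S X) k = j (X k) k := by
    intro X k
    induction X using DirectSum.induction_on with
    | zero => simp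
    | of e z =>
      rw [DirectSum.coeAddMonoidHom_of]
      by_cases he : e = k
      · subst he; rw [DirectSum.of_eq_same]
      · obtain ⟨y, hy⟩ := hS e _ z.2
        rw [hy, DirectSum.of_eq_of_ne _ _ _ (Ne.symm he), DirectSum.of_eq_of_ne _ _ _ (Ne.symm he)]
        simp
    | add X Y hX hY => simp [hX, hY]
  refine ⟨(injective_iff_map_eq_zero _).2 fun X hX => ?_, fun x => ?_⟩
  · ext k : 1
    obtain ⟨y, hy⟩ := hS k _ (X k).2
    have h0 := key X k
    rw [hX, map_zero, hy, DirectSum.of_eq_same] at h0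
    refine Subtype.ext (hj ?_)
    rw [hy, ← h0]
    simp
  · choose c hcx using hc x
    refine ⟨∑ k ∈ (j x).support, DirectSum.of (fun n => S n) k ⟨c k, hS' k _ _ (hcx k)⟩, hj ?_⟩
    rw [map_sum, map_sum]
    simp only [DirectSum.coeAddMonoidHom_of, hcx]
    exact DirectSum.sum_support_of _

end internal

section model

variable {R A : Type u} [CommRing R] [CommRing A] [Algebra R A] {𝒜 : ℕ → Submodule R A} [GradedAlgebra 𝒜]
variable {ι : Type u} {f : ι → A} {hf : ∀ i, f i ∈ 𝒜 1} {F : (Proj 𝒜).Modules}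

/-- `Γ_*(F)` over the base ring. -/
instance moduleBase : Module R (GM 𝒜 f hf F) := Module.compHom _ (algebraMap R A)

instance isScalarTower_base : IsScalarTower R A (GM 𝒜 f hf F) :=
  ⟨fun r a m => (congrArg (· • m) (Algebra.smul_def r a)).trans (mul_smul _ _ _)⟩

lemma of_congr {n n' : ℕ} (h : n = n') (s : Gam 𝒜 f hf F n) :
    ∃ t, t.1 = s.1 ∧
      DirectSum.of (fun n => Gam 𝒜 f hf F n) n' t = DirectSum.of (fun n => Gam 𝒜 f hf F n) n s := by
  subst h; exact ⟨s, rfl, rfl⟩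

variable (𝒜 f hf F) in
/-- The degree `n` part. -/
def grade (n : ℕ) : Submodule R (GM 𝒜 f hf F) where
  carrier := Set.range (DirectSum.of (fun n => Gam 𝒜 f hf F n) n)
  zero_mem' := ⟨0, map_zero _⟩
  add_mem' := by rintro _ _ ⟨s, rfl⟩ ⟨t, rfl⟩; exact ⟨s + t, map_add _ _ _⟩
  smul_mem' r := by
    rintro _ ⟨s, rfl⟩
    change algebraMap R A r • DirectSum.of (fun n => Gam 𝒜 f hf F n) n s ∈ _
    rw [smul_of (SetLike.algebraMap_mem_graded 𝒜 r)]
    obtain ⟨t, -, ht⟩ := of_congr (zero_add n) (act (SetLike.algebraMap_mem_graded 𝒜 r) s)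
    exact ⟨t, ht⟩

variable (N : Submodule A (GM 𝒜 f hf F))

/-- The grading induced on a submodule. -/
def subGrade (n : ℕ) : Submodule R N := (grade 𝒜 f hf F n).comap (N.subtype.restrictScalars R)

instance gradedSMul_sub : SetLike.GradedSMul 𝒜 (subGrade N) := ⟨fun {i j a m} ha hm => by
  obtain ⟨y, hy⟩ := hm
  exact ⟨act ha y, ((smul_of ha y).symm.trans (congrArg (a • ·) hy))⟩⟩

variable (hN : ∀ x ∈ N, ∀ k, DirectSum.of (fun n => Gam 𝒜 f hf F n) k (x k) ∈ N)

include hN in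
theorem isInternal_sub : DirectSum.IsInternal (subGrade (R := R) N) :=
  isInternal_of_injective N.subtype.toAddMonoidHom N.injective_subtype (subGrade (R := R) N)
    (fun n h hh => ⟨hh.choose, hh.choose_spec.symm⟩) (fun n h y hy => ⟨y, hy.symm⟩)
    (fun h k => ⟨⟨_, hN h.1 h.2 k⟩, rfl⟩)

variable [Finite ι]

include hN in
theorem exists_iso (hF : Coh.IsQCoh F) (cov : ∀ x : Proj 𝒜, ∃ i, x ∈ D 𝒜 f i)
    (hsurj : ∀ i (t : Γ(F, D 𝒜 f i)), ∃ e, ∃ y : Gam 𝒜 f hf F e, DirectSum.of (fun n => Gam 𝒜 f hf F n) e y ∈ N ∧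
      ∀ x (hx : x ∈ D 𝒜 f i), g 𝒜 f F i x hx (y.1 i) = g 𝒜 f F i x hx t) :
    ∃ (_ : DirectSum.Decomposition (subGrade (R := R) N)),
      Nonempty (GrTilde.tilde 𝒜 (subGrade (R := R) N) 0 ≅ F) := by
  classical
  letI := (isInternal_sub N hN).chooseDecomposition
  have hiso : IsIso (datOf (ℳ := subGrade (R := R) N) cov N.subtype (fun e (m : N) (hm : m ∈ subGrade (R := R) N e) => ⟨hm.choose, hm.choose_spec.symm⟩)).hom :=
    isIso_datOf cov N.subtype _ hF N.injective_subtype fun i t => by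
      obtain ⟨e, y, hy, hg⟩ := hsurj i t
      refine ⟨e, ⟨_, hy⟩, ⟨y, rfl⟩, fun x hx => ?_⟩
      show g 𝒜 f F i x hx ((DirectSum.of (fun n => Gam 𝒜 f hf F n) e y e).1 i) = _
      rw [DirectSum.of_eq_same]
      exact hg x hx
  exact ⟨inferInstance, ⟨@asIso _ _ _ _ _ hiso⟩⟩

theorem exists_iso_top (hF : Coh.IsQCoh F) (cov : ∀ x : Proj 𝒜, ∃ i, x ∈ D 𝒜 f i) :
    ∃ (_ : DirectSum.Decomposition (subGrade (R := R) (⊤ : Submodule A (GM 𝒜 f hf F)))),
      Nonempty (GrTilde.tilde 𝒜 (subGrade (R := R) (⊤ : Submodule A (GM 𝒜 f hf F))) 0 ≅ F) :=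
  exists_iso _ (fun _ _ _ => trivial) hF cov fun i t => by
    obtain ⟨n, m, hm⟩ := exists_extend (hf := hf) hF i t
    exact ⟨n, m, trivial, hm⟩

/-- The chart sections realised by homogeneous elements of `N` form a submodule. -/
def realised (i : ι) : Submodule Γ(Proj 𝒜, D 𝒜 f i) Γ(F, D 𝒜 f i) where
  carrier := {t | ∃ e, ∃ y : Gam 𝒜 f hf F e, DirectSum.of (fun n => Gam 𝒜 f hf F n) e y ∈ N ∧
    ∀ x (hx : x ∈ D 𝒜 f i), g 𝒜 f F i x hx (y.1 i) = g 𝒜 f F i x hx t}
  zero_mem' := ⟨0, 0, by simp, fun x hx => rfl⟩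
  add_mem' := by
    rintro t t' ⟨e, y, hy, hg⟩ ⟨e', y', hy', hg'⟩
    have h1 : f i ^ e' ∈ 𝒜 (e' * 1) := by simpa using SetLike.pow_mem_graded e' (hf i)
    have h2 : f i ^ e ∈ 𝒜 (e * 1) := by simpa using SetLike.pow_mem_graded e (hf i)
    obtain ⟨z', hzz, hz'⟩ := of_congr (by omega : e * 1 + e' = e' * 1 + e) (act h2 y')
    refine ⟨e' * 1 + e, act h1 y + z', ?_, fun x hx => ?_⟩
    · rw [map_add, hz', ← smul_of h1, ← smul_of h2]
      exact add_mem (N.smul_mem _ hy) (N.smul_mem _ hy')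
    · simp only [AddSubgroup.coe_add, Pi.add_apply, g, map_add]
      rw [hzz]
      refine congrArg₂ (· + ·) ((g_act h1 y i x hx).trans ?_) ((g_act h2 y' i x hx).trans ?_)
      · rw [ρ_pow i x hx (hf i) e', ρ_self, one_pow, one_smul]; exact hg x hx
      · rw [ρ_pow i x hx (hf i) e, ρ_self, one_pow, one_smul]; exact hg' x hx
  smul_mem' r := by
    rintro t ⟨e, y, hy, hg⟩
    obtain ⟨k, a, ha, rfl⟩ := exists_coord (hf := hf) i r
    refine ⟨k + e, act ha y, by rw [← smul_of ha]; exact N.smul_mem _ hy, fun x hx => ?_⟩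
    rw [g_act, hg x hx]
    exact (germ_smul' F hx _ _).symm

end model

end Groth.Agent.GrGamma
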